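import Cfsg.Agent.Lib.RankOne.Fixed
import Cfsg.Agent.Lib.Frobenius.KernelNilpotent
import Cfsg.Agent.Lib.Core.Nilpotent

/-!
The split rank-one set-up with two commuting involutions: `Q` is nilpotent and its involutions are
central.
-/

set_option autoImplicit false
set_option linter.unusedSectionVars false
set_option linter.style.haveILetI false

namespace Cfsg.Agent.Lib.RankOne

open MulAction

variable {G Ω : Type*} [Group G] [MulAction G Ω] [Finite G] {a : Ω} {t : G} {Q : Subgroup G}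

section setup

variable (hS : Cfsg.IsRankOneSetup G Ω a t Q)
include hS

theorem exists_two_involutions
    (h2 : ∃ x y : G, x ≠ 1 ∧ y ≠ 1 ∧ x ≠ y ∧ x * x = 1 ∧ y * y = 1 ∧ x * y = y * x) :
    ∃ s s' : G, s ∈ Cfsg.involutionsIn (stabilizer G a : Set G) ∧
      s' ∈ Cfsg.involutionsIn (stabilizer G a : Set G) ∧ s ≠ s' := by
  obtain ⟨x, y, hx1, hy1, hxy, hx, hy, hc⟩ := h2
  haveI := isPretransitive hS
  obtain ⟨c, hxc⟩ := exists_fixed hS hx
  obtain ⟨g, hg⟩ := MulAction.exists_smul_eq G c a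
  have hgc : g⁻¹ • a = c := by rw [← hg, inv_smul_smul]
  have hyc : y • c = c := fixed_unique hS hx hx1 (by rw [smul_smul, hc, mul_smul, hxc]) hxc
  have key : ∀ u : G, u ≠ 1 → u * u = 1 → u • c = c →
      g * u * g⁻¹ ∈ Cfsg.involutionsIn (stabilizer G a : Set G) := by
    intro u hu1 hu huc
    refine ⟨?_, fun h => hu1 (conj_eq_one_iff.mp h), ?_⟩
    · show (g * u * g⁻¹) • a = a
      rw [mul_smul, mul_smul, hgc, huc, hg]
    · calc g * u * g⁻¹ * (g * u * g⁻¹) = g * (u * u) * g⁻¹ := by group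
        _ = 1 := by rw [hu]; group
  exact ⟨_, _, key x hx1 hx hxc, key y hy1 hy hyc, fun h => hxy (mul_left_cancel (mul_right_cancel h))⟩

theorem exists_inverted_ne_one
    (h2 : ∃ x y : G, x ≠ 1 ∧ y ≠ 1 ∧ x ≠ y ∧ x * x = 1 ∧ y * y = 1 ∧ x * y = y * x) :
    ∃ k ∈ Cfsg.invertedBy (twoStab a t) t, k ≠ 1 := by
  obtain ⟨s, s', hs, hs', hne⟩ := exists_two_involutions hS h2
  obtain ⟨k, hk, he⟩ := exists_conj_inverted hS hs hs'
  refine ⟨k, hk, ?_⟩
  rintro rfl
  exact hne (by simpa using he)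

theorem inverted_pow {k : G} (hk : k ∈ Cfsg.invertedBy (twoStab a t) t) (n : ℕ) :
    k ^ n ∈ Cfsg.invertedBy (twoStab a t) t :=
  ⟨(twoStab a t).pow_mem hk.1 n, by rw [← conj_pow, hk.2, inv_pow]⟩

/-- `Q` is nilpotent. -/
theorem nilpotent_Q
    (h2 : ∃ x y : G, x ≠ 1 ∧ y ≠ 1 ∧ x ≠ y ∧ x * x = 1 ∧ y * y = 1 ∧ x * y = y * x) :
    Group.IsNilpotent Q := by
  obtain ⟨k, hk, hk1⟩ := exists_inverted_ne_one hS h2
  obtain ⟨r, hr, hrdvd⟩ := Nat.exists_prime_and_dvd
    (fun h : orderOf k = 1 => hk1 (orderOf_eq_one_iff.mp h))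
  set x := k ^ (orderOf k / r) with hx
  have hxr : orderOf x = r := orderOf_pow_orderOf_div (orderOf_pos k).ne' hrdvd
  have hx1 : x ≠ 1 := fun h => by
    rw [h, orderOf_one] at hxr
    exact hr.ne_one hxr.symm
  have hxinv := inverted_pow hS hk (orderOf k / r)
  have hxa : x ∈ stabilizer G a := D_le hS hxinv.1
  set K : Subgroup (stabilizer G a) := Q.subgroupOf (stabilizer G a) with hK
  haveI : K.Normal := ⟨fun n hn g => by
    rw [hK, Subgroup.mem_subgroupOf] at hn ⊢
    exact conj_Q hS g.2 hn⟩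
  let φ : MulAut K := MulAut.conjNormal (⟨x, hxa⟩ : stabilizer G a)
  have hfpf : MonoidHom.FixedPointFree ((φ : K ≃* K) : K →* K) := by
    intro y hy
    have h : x * ((y : stabilizer G a) : G) * x⁻¹ = ((y : stabilizer G a) : G) :=
      congrArg (fun z : K => ((z : stabilizer G a) : G)) hy
    have hmem : ((y : stabilizer G a) : G) ∈ Q ⊓ Subgroup.centralizer {x} :=
      ⟨Subgroup.mem_subgroupOf.mp y.2, Subgroup.mem_centralizer_iff.mpr fun z hz => by
        rw [Set.mem_singleton_iff] at hz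
        subst hz
        exact mul_inv_eq_iff_eq_mul.mp h⟩
    rw [inverted_fixedPointFree hS hxinv hx1, Subgroup.mem_bot] at hmem
    exact Subtype.ext (Subtype.ext hmem)
  have hφr : φ ^ r = 1 := by
    have : (⟨x, hxa⟩ : stabilizer G a) ^ r = 1 :=
      Subtype.ext (by show x ^ r = 1; rw [← hxr, pow_orderOf_eq_one])
    rw [← map_pow, this, map_one]
  haveI := Coprime.isNilpotent_of_fixedPointFree Frobenius.npcCriterion φ hfpf hr hφr
  exact Group.nilpotent_of_mulEquiv (Subgroup.subgroupOfEquivOfLe hS.le)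

/-- The involutions of `G_a` are central in `Q`. -/
theorem involution_central
    (h2 : ∃ x y : G, x ≠ 1 ∧ y ≠ 1 ∧ x ≠ y ∧ x * x = 1 ∧ y * y = 1 ∧ x * y = y * x)
    {s : G} (hs : s ∈ Cfsg.involutionsIn (stabilizer G a : Set G)) {y : G} (hy : y ∈ Q) :
    s * y = y * s := by
  haveI := nilpotent_Q hS h2
  haveI : Fact (Nat.Prime 2) := ⟨Nat.prime_two⟩
  have hsQ := involution_mem_Q hS hs.1 hs.2.2
  let P : Sylow 2 Q := default
  haveI : (P : Subgroup Q).Normal := Coprime.normal_of_isNilpotent (nilpotent_Q hS h2) P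
  have hP : (P : Subgroup Q) ≠ ⊥ := by
    refine P.ne_bot_of_dvd_card ?_
    have := orderOf_eq_prime (x := (⟨s, hsQ⟩ : Q)) (p := 2)
      (Subtype.ext (by show s ^ 2 = 1; rw [pow_two]; exact hs.2.2))
      (fun h => hs.2.1 (congrArg Subtype.val h))
    exact this ▸ orderOf_dvd_natCard _
  have hne := Nilp.inf_center_ne_bot_of_normal hP
  obtain ⟨c, hc, hc1⟩ := (Subgroup.ne_bot_iff_exists_ne_one).mp hne |> fun ⟨c, h⟩ =>
    (⟨(c : Q), c.2, fun e => h (Subtype.ext e)⟩ : ∃ c : Q, c ∈ (P : Subgroup Q) ⊓ Subgroup.center Q ∧ c ≠ 1)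
  obtain ⟨n, hn⟩ := IsPGroup.iff_orderOf.mp P.2 ⟨c, hc.1⟩
  have hn' : orderOf c = 2 ^ n :=
    (Subgroup.orderOf_coe (⟨c, hc.1⟩ : (P : Subgroup Q))).trans hn
  obtain ⟨z, hz, hzc⟩ : ∃ z : Q, orderOf z = 2 ∧ z ∈ Subgroup.center Q := by
    rcases Nat.eq_zero_or_pos n with rfl | hnpos
    · exact absurd (orderOf_eq_one_iff.mp (by rw [hn']; rfl)) hc1
    · exact ⟨c ^ (orderOf c / 2), orderOf_pow_orderOf_div (orderOf_pos c).ne'
        (hn' ▸ dvd_pow_self 2 hnpos.ne'), Subgroup.pow_mem _ hc.2 _⟩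
  have hzs : (z : G) ∈ Cfsg.involutionsIn (stabilizer G a : Set G) := by
    refine ⟨hS.le z.2, fun h => ?_, ?_⟩
    · have : z = 1 := Subtype.ext h
      rw [this, orderOf_one] at hz
      omega
    · have := pow_orderOf_eq_one z
      rw [hz, pow_two] at this
      exact congrArg Subtype.val this
  obtain ⟨k, hk, rfl⟩ := exists_conj_inverted hS hzs hs
  have hka := D_le hS hk.1
  have := congrArg Subtype.val (Subgroup.mem_center_iff.mp hzc ⟨k * y * k⁻¹, conj_Q hS hka hy⟩)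
  simp only [Subgroup.coe_mul] at this
  calc k⁻¹ * (z : G) * k * y = k⁻¹ * ((z : G) * (k * y * k⁻¹)) * k := by group
    _ = k⁻¹ * (k * y * k⁻¹ * (z : G)) * k := by rw [this]
    _ = y * (k⁻¹ * (z : G) * k) := by group

/-- `x = u v` with `x² ≠ 1` is conjugate to `u' t` with `u'` an involution of `G_a`. -/
theorem exists_conj_mul_t
    (h2 : ∃ x y : G, x ≠ 1 ∧ y ≠ 1 ∧ x ≠ y ∧ x * x = 1 ∧ y * y = 1 ∧ x * y = y * x)
    {u v : G} (hu1 : u ≠ 1) (hu : u * u = 1) (hv1 : v ≠ 1) (hv : v * v = 1)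
    (hx : (u * v) * (u * v) ≠ 1) :
    ∃ g : G, ∃ u' ∈ Cfsg.involutionsIn (stabilizer G a : Set G), g * (u * v) * g⁻¹ = u' * t := by
  haveI := isPretransitive hS
  obtain ⟨c, huc⟩ := exists_fixed hS hu
  obtain ⟨g, hg⟩ := MulAction.exists_smul_eq G c a
  have hgc : g⁻¹ • a = c := by rw [← hg, inv_smul_smul]
  have hconj : ∀ (h w : G), w * w = 1 → h * w * h⁻¹ * (h * w * h⁻¹) = 1 := fun h w hw => by
    calc h * w * h⁻¹ * (h * w * h⁻¹) = h * (w * w) * h⁻¹ := by group
      _ = 1 := by rw [hw]; group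
  set s := g * u * g⁻¹ with hs'
  have hs : s ∈ Cfsg.involutionsIn (stabilizer G a : Set G) := by
    refine ⟨?_, fun h => hu1 (conj_eq_one_iff.mp h), hconj g u hu⟩
    show (g * u * g⁻¹) • a = a
    rw [mul_smul, mul_smul, hgc, huc, hg]
  set w := g * v * g⁻¹ with hw'
  have hw : w * w = 1 := hconj g v hv
  have hwa : w • a ≠ a := by
    intro h
    refine hx ?_
    have hws : w * s = s * w := by
      have hwi : w ∈ Cfsg.involutionsIn (stabilizer G a : Set G) :=
        ⟨h, fun e => hv1 (conj_eq_one_iff.mp e), hw⟩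
      exact (involution_central hS h2 hs (involution_mem_Q hS hwi.1 hw)).symm
    have : g * ((u * v) * (u * v)) * g⁻¹ = 1 := by
      calc g * ((u * v) * (u * v)) * g⁻¹ = s * (w * s) * w := by rw [hs', hw']; group
        _ = (s * s) * (w * w) := by rw [hws]; group
        _ = 1 := by rw [hs.2.2, hw, one_mul]
    exact conj_eq_one_iff.mp this
  obtain ⟨h, hh, hhw⟩ := exists_Q_move' hS hwa (t_smul_ne hS)
  set i := h * w * h⁻¹ with hi'
  have hi : i * i = 1 := hconj h w hw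
  have hia : i • a = t • a := by rw [hi', mul_smul, mul_smul, Q_inv_fix hS hh, hhw]
  have hk := swap_mem_inverted hS hi hia
  obtain ⟨hkD, hkt⟩ := (inverted_iff hS).mp hk
  set k := t * i with hk'
  have hm := sqrtIn_mem (X := twoStab a t) hkD
  set m := sqrtIn (twoStab a t) k with hm'
  have hmm : m * m = k := sqrtIn_mul_self hS.odd_card hkD
  have hmt : t * m * t = m⁻¹ := by
    have := sqrtIn_conj (twoStab a t) (x := k) (g := t)
    rw [t_inv hS, hkt, sqrtIn_inv] at this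
    exact this
  refine ⟨m * h * g, m * (h * s * h⁻¹) * m⁻¹, ?_, ?_⟩
  · refine ⟨?_, fun e => hs.2.1 (conj_eq_one_iff.mp (conj_eq_one_iff.mp e)),
      hconj m _ (hconj h s hs.2.2)⟩
    exact mul_mem (mul_mem (D_le hS hm) (mul_mem (mul_mem (hS.le hh) hs.1) (inv_mem (hS.le hh))))
      (inv_mem (D_le hS hm))
  · have e1 : m * i * m⁻¹ = t := by
      have e2 : i = t * (m * m) := by rw [hmm, hk', t_cancel hS]
      have e3 : m * t = t * m⁻¹ := by rw [← hmt, ← mul_assoc, ← mul_assoc, hS.mul_self, one_mul]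
      rw [e2, show m * (t * (m * m)) * m⁻¹ = m * t * m by group, e3]
      group
    calc m * h * g * (u * v) * (m * h * g)⁻¹
        = m * (h * s * h⁻¹) * m⁻¹ * (m * i * m⁻¹) := by rw [hs', hi', hw']; group
      _ = m * (h * s * h⁻¹) * m⁻¹ * t := by rw [e1]

/-- The centraliser of a non-involutory product of two involutions has odd order. -/
theorem odd_card_centralizer_mul_t {u : G}
    (hu : u ∈ Cfsg.involutionsIn (stabilizer G a : Set G)) :
    Odd (Nat.card (Subgroup.centralizer {u * t})) := by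
  haveI := isPretransitive hS
  rw [← Nat.not_even_iff_odd, even_iff_two_dvd]
  intro hdvd
  haveI : Fact (Nat.Prime 2) := ⟨Nat.prime_two⟩
  obtain ⟨⟨z, hzc⟩, hz2⟩ := exists_prime_orderOf_dvd_card' 2 hdvd
  rw [Subgroup.orderOf_mk] at hz2
  have hz : z * z = 1 := by rw [← pow_two, ← hz2, pow_orderOf_eq_one]
  have hz1 : z ≠ 1 := fun h => by rw [h, orderOf_one] at hz2; omega
  set x := u * t with hx
  have hzx : x * z = z * x := Subgroup.mem_centralizer_iff.mp hzc x rfl
  obtain ⟨c, hc⟩ := exists_fixed hS hz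
  have hxc : x • c = c := fixed_unique hS hz hz1 (by rw [smul_smul, ← hzx, mul_smul, hc]) hc
  have hua : u • a = a := hu.1
  have hui : u⁻¹ = u := inv_eq_of_mul_eq_one_right hu.2.2
  have huxu : u * x * u = x⁻¹ := by
    rw [hx, mul_inv_rev, hui, t_inv hS, ← mul_assoc u u t, hu.2.2, one_mul]
  set d := u • c with hd
  have hxd : x • d = d := by
    rw [hd, smul_smul, show x * u = u * x⁻¹ by
      rw [← huxu]; rw [← mul_assoc, ← mul_assoc, hu.2.2, one_mul], mul_smul,
      inv_smul_eq_iff.mpr hxc.symm]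
  have hcd : c ≠ d := by
    intro h
    have hca : c = a := fixed_unique hS hu.2.2 hu.2.1 h.symm hua
    rw [hca, hx, mul_smul] at hxc
    exact t_smul_ne hS (MulAction.injective u (hxc.trans hua.symm))
  obtain ⟨g, hga, hgb⟩ :=
    MulAction.is_two_pretransitive_iff.mp hS.two_transitive hcd (t_smul_ne hS).symm
  have hgc : g⁻¹ • a = c := by rw [← hga, inv_smul_smul]
  have hgd : g⁻¹ • t • a = d := by rw [← hgb, inv_smul_smul]
  set x' := g * x * g⁻¹ with hx'
  have hx'D : x' ∈ twoStab a t := mem_twoStab.mpr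
    ⟨by rw [hx', mul_smul, mul_smul, hgc, hxc, hga],
      by rw [hx', mul_smul, mul_smul, hgd, hxd, hgb]⟩
  set i := g * u * g⁻¹ with hi'
  have hi : i * i = 1 := by
    calc i * i = g * (u * u) * g⁻¹ := by rw [hi']; group
      _ = 1 := by rw [hu.2.2]; group
  have hia : i • a = t • a := by rw [hi', mul_smul, mul_smul, hgc, ← hd, hgb]
  obtain ⟨hkD, hkt⟩ := (inverted_iff hS).mp (swap_mem_inverted hS hi hia)
  set k := t * i with hk'
  have hm := sqrtIn_mem (X := twoStab a t) hkD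
  set m := sqrtIn (twoStab a t) k with hm'
  have hmm : m * m = k := sqrtIn_mul_self hS.odd_card hkD
  have hmt : t * m * t = m⁻¹ := by
    have := sqrtIn_conj (twoStab a t) (x := k) (g := t)
    rw [t_inv hS, hkt, sqrtIn_inv] at this
    exact this
  have e1 : m * i * m⁻¹ = t := by
    have e2 : i = t * (m * m) := by rw [hmm, hk', t_cancel hS]
    have e3 : m * t = t * m⁻¹ := by rw [← hmt, ← mul_assoc, ← mul_assoc, hS.mul_self, one_mul]
    rw [e2, show m * (t * (m * m)) * m⁻¹ = m * t * m by group, e3]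
    group
  set X := m * x' * m⁻¹ with hX
  have hXinv : X ∈ Cfsg.invertedBy (twoStab a t) t := by
    refine (inverted_iff hS).mpr ⟨mul_mem (mul_mem hm hx'D) (inv_mem hm), ?_⟩
    rw [← e1]
    calc m * i * m⁻¹ * X * (m * i * m⁻¹) = m * (g * (u * x * u) * g⁻¹) * m⁻¹ := by
          rw [hX, hx', hi']; group
      _ = X⁻¹ := by rw [huxu, hX, hx']; group
  set Z := m * (g * z * g⁻¹) * m⁻¹ with hZ
  have hZa : Z ∈ stabilizer G a := by
    refine mul_mem (mul_mem (D_le hS hm) ?_) (inv_mem (D_le hS hm))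
    show (g * z * g⁻¹) • a = a
    rw [mul_smul, mul_smul, hgc, hc, hga]
  have hZ2 : Z * Z = 1 := by
    calc Z * Z = m * g * (z * z) * g⁻¹ * m⁻¹ := by rw [hZ]; group
      _ = 1 := by rw [hz]; group
  have hmem : Z ∈ Q ⊓ Subgroup.centralizer {X} := by
    refine ⟨involution_mem_Q hS hZa hZ2, Subgroup.mem_centralizer_iff.mpr fun y hy => ?_⟩
    rw [Set.mem_singleton_iff] at hy
    subst hy
    calc X * Z = m * g * (x * z) * g⁻¹ * m⁻¹ := by rw [hX, hZ, hx']; group
      _ = Z * X := by rw [hzx, hX, hZ, hx']; group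
  have hX1 : X ≠ 1 := by
    intro h
    have h1 : x = 1 := conj_eq_one_iff.mp (conj_eq_one_iff.mp h)
    have hut : u = t := by
      rw [← mul_one u, ← hS.mul_self, ← mul_assoc, ← hx, h1, one_mul]
    exact t_smul_ne hS (hut ▸ hua)
  rw [inverted_fixedPointFree hS hXinv hX1, Subgroup.mem_bot] at hmem
  exact hz1 (conj_eq_one_iff.mp (conj_eq_one_iff.mp hmem))

end setup

end Cfsg.Agent.Lib.RankOne
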