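import Cfsg.Agent.Lib.RankOne.OddGroup

/-!
First properties of the split rank-one set-up `Cfsg.IsRankOneSetup`.
-/

set_option autoImplicit false
set_option linter.unusedSectionVars false
set_option linter.style.haveILetI false

namespace Cfsg.Agent.Lib.RankOne

open MulAction Pointwise

variable {G Ω : Type*} [Group G] [MulAction G Ω]

/-- The two-point stabiliser of the set-up. -/
abbrev twoStab (a : Ω) (t : G) : Subgroup G :=
  stabilizer G a ⊓ stabilizer G (t • a)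

theorem mem_twoStab {a : Ω} {t d : G} : d ∈ twoStab a t ↔ d • a = a ∧ d • t • a = t • a := by
  show d • a = a ∧ d • t • a = t • a ↔ _
  rfl

variable {a : Ω} {t : G} {Q : Subgroup G}

section setup

variable (hS : Cfsg.IsRankOneSetup G Ω a t Q)
include hS

theorem t_inv : t⁻¹ = t := inv_eq_of_mul_eq_one_right hS.mul_self

theorem t_cancel (x : G) : t * (t * x) = x := by rw [← mul_assoc, hS.mul_self, one_mul]

theorem t_smul_smul (c : Ω) : t • t • c = c := by rw [smul_smul, hS.mul_self, one_smul]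

theorem t_smul_ne : t • a ≠ a := hS.not_mem

theorem Q_fix {q : G} (hq : q ∈ Q) : q • a = a := hS.le hq

theorem Q_inv_fix {q : G} (hq : q ∈ Q) : q⁻¹ • a = a := hS.le (Q.inv_mem hq)

theorem D_le : twoStab a t ≤ stabilizer G a := inf_le_left

theorem conj_t_mem_D {d : G} (hd : d ∈ twoStab a t) : t * d * t ∈ twoStab a t := by
  rw [mem_twoStab] at hd ⊢
  constructor
  · rw [mul_smul, mul_smul, hd.2, t_smul_smul hS]
  · rw [mul_smul, mul_smul, t_smul_smul hS, hd.1]

theorem QD_eq_one {q d : G} (hq : q ∈ Q) (hd : d ∈ twoStab a t) (h : q = d) : q = 1 := by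
  subst h
  have : q ∈ Q ⊓ stabilizer G (t • a) := ⟨hq, (mem_twoStab.mp hd).2⟩
  rw [hS.inf_eq_bot] at this
  exact Subgroup.mem_bot.mp this

theorem eq_one_of_fix {q : G} (hq : q ∈ Q) (h : q • t • a = t • a) : q = 1 :=
  QD_eq_one hS hq (mem_twoStab.mpr ⟨Q_fix hS hq, h⟩) rfl

theorem exists_mul_of_mem {x : G} (hx : x ∈ stabilizer G a) :
    ∃ q ∈ Q, ∃ d ∈ twoStab a t, x = q * d := by
  have hle : twoStab a t ≤ Subgroup.normalizer (Q : Set G) := by
    intro d hd
    rw [Subgroup.mem_normalizer_iff]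
    intro y
    refine ⟨fun hy => hS.conj_mem d (D_le hS hd) y hy, fun hy => ?_⟩
    have := hS.conj_mem d⁻¹ ((stabilizer G a).inv_mem (D_le hS hd)) _ hy
    have e : d⁻¹ * (d * y * d⁻¹) * d⁻¹⁻¹ = y := by group
    rwa [e] at this
  have h1 := Subgroup.coe_mul_of_right_le_normalizer_left Q (twoStab a t) hle
  rw [hS.sup_eq] at h1
  have h2 : x ∈ ((Q : Set G) * (twoStab a t : Set G)) := by
    rw [← h1]; exact hx
  obtain ⟨q, hq, d, hd, e⟩ := Set.mem_mul.mp h2
  exact ⟨q, hq, d, hd, e.symm⟩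

theorem mul_unique {q q' d d' : G} (hq : q ∈ Q) (hq' : q' ∈ Q) (hd : d ∈ twoStab a t)
    (hd' : d' ∈ twoStab a t) (h : q * d = q' * d') : q = q' ∧ d = d' := by
  have h1 : q'⁻¹ * q = d' * d⁻¹ := by
    calc q'⁻¹ * q = q'⁻¹ * (q * d) * d⁻¹ := by group
      _ = d' * d⁻¹ := by rw [h]; group
  have h2 := QD_eq_one hS (Q.mul_mem (Q.inv_mem hq') hq)
    ((twoStab a t).mul_mem hd' ((twoStab a t).inv_mem hd)) h1
  have hqq : q = q' := (inv_mul_eq_one.mp h2).symm
  subst hqq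
  exact ⟨rfl, mul_left_cancel h⟩

theorem conj_Q {g q : G} (hg : g ∈ stabilizer G a) (hq : q ∈ Q) : g * q * g⁻¹ ∈ Q :=
  hS.conj_mem g hg q hq

theorem exists_Q_move {c : Ω} (hc : c ≠ a) : ∃ q ∈ Q, q • t • a = c := by
  obtain ⟨g, hga, hgb⟩ :=
    MulAction.is_two_pretransitive_iff.mp hS.two_transitive (t_smul_ne hS).symm hc.symm
  obtain ⟨q, hq, d, hd, rfl⟩ := exists_mul_of_mem hS (x := g) hga
  refine ⟨q, hq, ?_⟩
  rwa [mul_smul, (mem_twoStab.mp hd).2] at hgb

theorem Q_move_unique {c : Ω} (hc : c ≠ a) {q q' : G} (hq : q ∈ Q) (hq' : q' ∈ Q)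
    (h : q • c = q' • c) : q = q' := by
  obtain ⟨p, hp, rfl⟩ := exists_Q_move hS hc
  have h1 : ((q' * p)⁻¹ * (q * p)) • t • a = t • a := by
    rw [mul_smul, mul_smul, h, ← mul_smul q', inv_smul_smul]
  have h2 := eq_one_of_fix hS (Q.mul_mem (Q.inv_mem (Q.mul_mem hq' hp)) (Q.mul_mem hq hp)) h1
  exact (mul_right_cancel (inv_mul_eq_one.mp h2)).symm

theorem exists_Q_move' {c c' : Ω} (hc : c ≠ a) (hc' : c' ≠ a) : ∃ q ∈ Q, q • c = c' := by
  obtain ⟨p, hp, rfl⟩ := exists_Q_move hS hc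
  obtain ⟨p', hp', rfl⟩ := exists_Q_move hS hc'
  exact ⟨p' * p⁻¹, Q.mul_mem hp' (Q.inv_mem hp), by rw [mul_smul, inv_smul_smul]⟩

/-- Existence of the canonical form `x t y`. -/
theorem exists_canonical {g : G} (hg : g ∉ stabilizer G a) :
    ∃ x ∈ stabilizer G a, ∃ y ∈ Q, g = x * t * y := by
  have hc : g⁻¹ • a ≠ a := fun h => hg (mem_stabilizer_iff.mpr (eq_inv_smul_iff.mp h.symm))
  obtain ⟨p, hp, hpc⟩ := exists_Q_move hS hc
  refine ⟨g * p * t, ?_, p⁻¹, Q.inv_mem hp, ?_⟩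
  · rw [mem_stabilizer_iff, mul_smul, mul_smul, hpc, smul_inv_smul]
  · have : g * p * t * t * p⁻¹ = g * p * (t * t) * p⁻¹ := by group
    rw [this, hS.mul_self]; group

theorem canonical_unique {x x' y y' : G} (hx : x ∈ stabilizer G a) (hx' : x' ∈ stabilizer G a)
    (hy : y ∈ Q) (hy' : y' ∈ Q) (h : x * t * y = x' * t * y') : x = x' ∧ y = y' := by
  have h1 : y' * y⁻¹ = t * (x'⁻¹ * x) * t := by
    calc y' * y⁻¹ = t⁻¹ * x'⁻¹ * (x' * t * y') * y⁻¹ := by group
      _ = t * (x'⁻¹ * x) * t := by rw [← h, t_inv hS]; group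
  have hfix : (x'⁻¹ * x) • a = a := (stabilizer G a).mul_mem ((stabilizer G a).inv_mem hx') hx
  have h2 := eq_one_of_fix hS (Q.mul_mem hy' (Q.inv_mem hy))
    (by rw [h1, mul_smul, mul_smul, t_smul_smul hS, hfix])
  have hyy : y = y' := (mul_inv_eq_one.mp h2).symm
  subst hyy
  exact ⟨mul_right_cancel (mul_right_cancel h), rfl⟩

/-- Uniqueness of the canonical form `g h t f`. -/
theorem triple_unique {g g' h h' f f' : G} (hg : g ∈ Q) (hg' : g' ∈ Q) (hh : h ∈ twoStab a t)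
    (hh' : h' ∈ twoStab a t) (hf : f ∈ Q) (hf' : f' ∈ Q)
    (e : g * h * t * f = g' * h' * t * f') : g = g' ∧ h = h' ∧ f = f' := by
  obtain ⟨e1, e2⟩ := canonical_unique hS ((stabilizer G a).mul_mem (hS.le hg) (D_le hS hh))
    ((stabilizer G a).mul_mem (hS.le hg') (D_le hS hh')) hf hf' e
  obtain ⟨e3, e4⟩ := mul_unique hS hg hg' hh hh' e1
  exact ⟨e3, e4, e2⟩

theorem conj_t_not_mem {x : G} (hx : x ∈ Q) (hx1 : x ≠ 1) : t * x * t ∉ stabilizer G a := by
  intro h
  rw [mem_stabilizer_iff, mul_smul, mul_smul, smul_eq_iff_eq_inv_smul, t_inv hS] at h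
  exact hx1 (eq_one_of_fix hS hx h)

theorem exists_triple {x : G} (hx : x ∈ Q) (hx1 : x ≠ 1) :
    ∃ g ∈ Q, ∃ h ∈ twoStab a t, ∃ f ∈ Q, t * x * t = g * h * t * f := by
  obtain ⟨y, hy, f, hf, e⟩ := exists_canonical hS (conj_t_not_mem hS hx hx1)
  obtain ⟨g, hg, h, hh, rfl⟩ := exists_mul_of_mem hS hy
  exact ⟨g, hg, h, hh, f, hf, e⟩

section finite

variable [Finite G]

theorem finite_points : Finite Ω := by
  refine Finite.of_surjective (fun o : Option ↥Q => o.elim a (fun q => (q : G) • t • a)) ?_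
  intro c
  rcases eq_or_ne c a with rfl | hc
  · exact ⟨none, rfl⟩
  · obtain ⟨q, hq, e⟩ := exists_Q_move hS hc
    exact ⟨some ⟨q, hq⟩, e⟩

theorem card_points : Nat.card Ω = Nat.card Q + 1 := by
  have hbij : Function.Bijective (fun o : Option ↥Q => o.elim a (fun q => (q : G) • t • a)) := by
    constructor
    · rintro (_ | q) (_ | q') h
      · rfl
      · exfalso
        have h' : (q' : G) • t • a = a := h.symm
        exact t_smul_ne hS (MulAction.injective (q' : G) (h'.trans (Q_fix hS q'.2).symm))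
      · exfalso
        have h' : (q : G) • t • a = a := h
        exact t_smul_ne hS (MulAction.injective (q : G) (h'.trans (Q_fix hS q.2).symm))
      · have := Q_move_unique hS (t_smul_ne hS) q.2 q'.2 h
        simp [Subtype.ext this]
    · intro c
      rcases eq_or_ne c a with rfl | hc
      · exact ⟨none, rfl⟩
      · obtain ⟨q, hq, e⟩ := exists_Q_move hS hc
        exact ⟨some ⟨q, hq⟩, e⟩
  rw [← Nat.card_eq_of_bijective _ hbij, Finite.card_option]

theorem isPretransitive : IsPretransitive G Ω :=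
  haveI := hS.two_transitive
  MulAction.isPretransitive_of_is_two_pretransitive

theorem card_stabilizer :
    Nat.card ↥(stabilizer G a) = Nat.card Q * Nat.card ↥(twoStab a t) := by
  rw [← Nat.card_prod]
  refine (Nat.card_eq_of_bijective
    (fun p : ↥Q × ↥(twoStab a t) => (⟨(p.1 : G) * p.2,
      (stabilizer G a).mul_mem (hS.le p.1.2) (D_le hS p.2.2)⟩ : stabilizer G a)) ?_).symm
  constructor
  · rintro ⟨⟨q, hq⟩, ⟨d, hd⟩⟩ ⟨⟨q', hq'⟩, ⟨d', hd'⟩⟩ h
    obtain ⟨rfl, rfl⟩ := mul_unique hS hq hq' hd hd' (congrArg Subtype.val h)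
    rfl
  · rintro ⟨x, hx⟩
    obtain ⟨q, hq, d, hd, rfl⟩ := exists_mul_of_mem hS hx
    exact ⟨⟨⟨q, hq⟩, ⟨d, hd⟩⟩, rfl⟩

theorem card_group :
    Nat.card G = Nat.card Q * Nat.card ↥(twoStab a t) * (Nat.card Q + 1) := by
  haveI := isPretransitive hS
  rw [← card_points hS, ← card_stabilizer hS, mul_comm, ← index_stabilizer_of_transitive G a]
  rw [mul_comm, Subgroup.card_mul_index]

theorem odd_card_points : ¬ 2 ∣ Nat.card Ω := by
  rw [card_points hS]
  obtain ⟨k, hk⟩ := hS.even_card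
  omega

theorem D_no_involution {d : G} (hd : d ∈ twoStab a t) (h : d * d = 1) : d = 1 :=
  eq_one_of_mul_self_of_odd hS.odd_card hd h

theorem exists_fixed {i : G} (hi : i * i = 1) : ∃ c : Ω, i • c = c := by
  haveI := finite_points hS
  haveI : Fintype Ω := Fintype.ofFinite Ω
  haveI : Fact (Nat.Prime 2) := ⟨Nat.prime_two⟩
  obtain ⟨c, hc⟩ := Equiv.Perm.exists_fixed_point_of_prime (α := Ω) (p := 2) (n := 1)
    (by rw [← Nat.card_eq_fintype_card]; exact odd_card_points hS)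
    (σ := MulAction.toPerm i) (by
      rw [pow_one, pow_two]
      ext x
      simp [MulAction.toPerm, smul_smul, hi])
  exact ⟨c, hc⟩

theorem fixed_unique {i : G} (hi : i * i = 1) (hi1 : i ≠ 1) {c d : Ω} (hc : i • c = c)
    (hd : i • d = d) : c = d := by
  by_contra hne
  obtain ⟨g, hga, hgb⟩ :=
    MulAction.is_two_pretransitive_iff.mp hS.two_transitive hne (t_smul_ne hS).symm
  have hmem : g * i * g⁻¹ ∈ twoStab a t := by
    rw [mem_twoStab]
    constructor
    · rw [mul_smul, mul_smul, ← hga, inv_smul_smul, hc]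
    · rw [mul_smul, mul_smul, ← hgb, inv_smul_smul, hd]
  have h1 := D_no_involution hS hmem (by
    calc g * i * g⁻¹ * (g * i * g⁻¹) = g * (i * i) * g⁻¹ := by group
      _ = 1 := by rw [hi]; group)
  exact hi1 (conj_eq_one_iff.mp h1)

theorem involution_mem_Q {i : G} (hia : i ∈ stabilizer G a) (hi : i * i = 1) : i ∈ Q := by
  obtain ⟨q, hq, d, hd, rfl⟩ := exists_mul_of_mem hS hia
  have h : d * d = 1 := by
    refine (mul_unique hS (d := d * d) (d' := 1) (q' := 1)
      (Q.mul_mem hq (conj_Q hS (D_le hS hd) hq)) Q.one_mem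
      ((twoStab a t).mul_mem hd hd) (twoStab a t).one_mem ?_).2
    calc q * (d * q * d⁻¹) * (d * d) = q * d * (q * d) := by group
      _ = 1 * 1 := by rw [hi, one_mul]
  rw [D_no_involution hS hd h, mul_one]
  exact hq

/-- The product of an involution fixing `a` and one moving `a` has odd order. -/
theorem odd_orderOf_mul {s u : G} (hsa : s • a = a) (hs1 : s ≠ 1) (hs : s * s = 1)
    (hua : u • a ≠ a) (hu : u * u = 1) : Odd (orderOf (s * u)) := by
  rw [← Nat.not_even_iff_odd]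
  rintro ⟨k, hk⟩
  have hsi : s⁻¹ = s := inv_eq_of_mul_eq_one_right hs
  have hui : u⁻¹ = u := inv_eq_of_mul_eq_one_right hu
  have hpos : 0 < orderOf (s * u) := orderOf_pos _
  set z := (s * u) ^ k with hz
  have hzz : z * z = 1 := by rw [hz, ← pow_add, ← hk, pow_orderOf_eq_one]
  have hz1 : z ≠ 1 := fun h => by
    have := orderOf_dvd_of_pow_eq_one h
    have := Nat.le_of_dvd (by omega) this
    omega
  have hzi : z⁻¹ = z := inv_eq_of_mul_eq_one_right hzz
  have hconj : ∀ v : G, v⁻¹ = v → v * (s * u) * v⁻¹ = (s * u)⁻¹ → v * z = z * v := by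
    intro v hv h
    have : v * z * v⁻¹ = z := by
      rw [hz, ← conj_pow, h, inv_pow, ← hz, hzi]
    calc v * z = v * z * v⁻¹ * v := by group
      _ = z * v := by rw [this]
  have hzs : s * z = z * s := hconj s hsi (by
    rw [mul_inv_rev, hsi, hui, ← mul_assoc s s u, hs, one_mul])
  have hzu : u * z = z * u := hconj u hui (by
    rw [mul_inv_rev, hsi, hui, mul_assoc u (s * u) u, mul_assoc s u u, hu, mul_one])
  have hza : z • a = a := fixed_unique hS hs hs1 (by rw [smul_smul, hzs, mul_smul, hsa]) hsa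
  exact hua (fixed_unique hS hzz hz1 (by rw [smul_smul, ← hzu, mul_smul, hza]) hza)

theorem conj_of_odd {s u : G} (hs : s * s = 1) (hu : u * u = 1)
    (h : Odd (orderOf (s * u))) : ∃ g : G, g * u * g⁻¹ = s := by
  obtain ⟨j, hj⟩ := h
  have hsi : s⁻¹ = s := inv_eq_of_mul_eq_one_right hs
  have hui : u⁻¹ = u := inv_eq_of_mul_eq_one_right hu
  refine ⟨(s * u) ^ (j + 1), ?_⟩
  have h1 : u * (s * u) * u⁻¹ = (s * u)⁻¹ := by
    rw [mul_inv_rev, hsi, hui, mul_assoc u (s * u) u, mul_assoc s u u, hu, mul_one]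
  have h2 : u * (((s * u) ^ (j + 1))⁻¹) = (s * u) ^ (j + 1) * u := by
    calc u * (((s * u) ^ (j + 1))⁻¹) = (u * (s * u) * u⁻¹)⁻¹ ^ (j + 1) * u := by
          rw [inv_pow, conj_pow]; group
      _ = _ := by rw [h1, inv_inv]
  rw [mul_assoc, h2, ← mul_assoc, ← pow_add]
  have : j + 1 + (j + 1) = orderOf (s * u) + 1 := by omega
  rw [this, pow_succ, pow_orderOf_eq_one, one_mul, mul_assoc, hu, mul_one]

theorem exists_conj_eq_t {u : G} (hu1 : u ≠ 1) (hu : u * u = 1) :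
    ∃ g : G, g * t * g⁻¹ = u := by
  haveI := isPretransitive hS
  obtain ⟨c, hc⟩ := exists_fixed hS hu
  obtain ⟨g, hg⟩ := MulAction.exists_smul_eq G c a
  have hu'a : (g * u * g⁻¹) • a = a := by rw [mul_smul, mul_smul, ← hg, inv_smul_smul, hc]
  have hu'1 : g * u * g⁻¹ ≠ 1 := fun h => hu1 (conj_eq_one_iff.mp h)
  have hu'2 : (g * u * g⁻¹) * (g * u * g⁻¹) = 1 := by
    calc _ = g * (u * u) * g⁻¹ := by group
      _ = 1 := by rw [hu]; group
  obtain ⟨k, hk⟩ := conj_of_odd hS hu'2 hS.mul_self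
    (odd_orderOf_mul hS hu'a hu'1 hu'2 (t_smul_ne hS) hS.mul_self)
  refine ⟨g⁻¹ * k, ?_⟩
  calc g⁻¹ * k * t * (g⁻¹ * k)⁻¹ = g⁻¹ * (k * t * k⁻¹) * g := by group
    _ = u := by rw [hk]; group

theorem involutions_conj {u v : G} (hu1 : u ≠ 1) (hu : u * u = 1) (hv1 : v ≠ 1)
    (hv : v * v = 1) : ∃ g : G, g * u * g⁻¹ = v := by
  obtain ⟨g, hg⟩ := exists_conj_eq_t hS hu1 hu
  obtain ⟨h, hh⟩ := exists_conj_eq_t hS hv1 hv
  refine ⟨h * g⁻¹, ?_⟩
  rw [← hg, ← hh]
  group

end finite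

end setup

end Cfsg.Agent.Lib.RankOne
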