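import Cfsg.Agent.Lib.RankOne.Inverted

/-!
Centralisers of subsets of the two-point stabiliser fixing three points, in the rank-one set-up.
-/

set_option autoImplicit false
set_option linter.unusedSectionVars false
set_option linter.style.haveILetI false

namespace Cfsg.Agent.Lib.RankOne

open MulAction

variable {G Ω : Type*} [Group G] [MulAction G Ω] [Finite G] {a : Ω} {t : G} {Q : Subgroup G}

section setup

variable (hS : Cfsg.IsRankOneSetup G Ω a t Q)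
include hS

theorem centralizer_Q_move {X : Set G} (hX : X ⊆ (stabilizer G a : Set G)) {c c' : Ω}
    (hc : c ≠ a) (hc' : c' ≠ a) (hfc : ∀ x ∈ X, x • c = c) (hfc' : ∀ x ∈ X, x • c' = c') :
    ∃ q ∈ Q, q ∈ Subgroup.centralizer X ∧ q • c = c' := by
  obtain ⟨q, hq, hqc⟩ := exists_Q_move' hS hc hc'
  refine ⟨q, hq, ?_, hqc⟩
  rw [Subgroup.mem_centralizer_iff]
  intro x hx
  have h1 : x * q * x⁻¹ = q := by
    refine Q_move_unique hS hc (conj_Q hS (hX hx) hq) hq ?_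
    rw [mul_smul, mul_smul, inv_smul_eq_iff.mpr (hfc x hx).symm, hqc, hfc' x hx]
  calc x * q = x * q * x⁻¹ * x := by group
    _ = q * x := by rw [h1]

theorem centralizer_move_fixing {X : Set G} {p c c' : Ω} (hp : ∀ x ∈ X, x • p = p) (hc : c ≠ p)
    (hc' : c' ≠ p) (hfc : ∀ x ∈ X, x • c = c) (hfc' : ∀ x ∈ X, x • c' = c') :
    ∃ h ∈ Subgroup.centralizer X, h • p = p ∧ h • c = c' := by
  haveI := isPretransitive hS
  obtain ⟨g, hg⟩ := MulAction.exists_smul_eq G p a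
  have hgp : g⁻¹ • a = p := by rw [← hg, inv_smul_smul]
  have hY : (fun x => g * x * g⁻¹) '' X ⊆ (stabilizer G a : Set G) := by
    rintro _ ⟨x, hx, rfl⟩
    show (g * x * g⁻¹) • a = a
    rw [mul_smul, mul_smul, hgp, hp x hx, hg]
  have hfix : ∀ d : Ω, (∀ x ∈ X, x • d = d) →
      ∀ y ∈ (fun x => g * x * g⁻¹) '' X, y • g • d = g • d := by
    rintro d hd _ ⟨x, hx, rfl⟩
    rw [mul_smul, mul_smul, inv_smul_smul, hd x hx]
  obtain ⟨q, hq, hqX, hqc⟩ := centralizer_Q_move hS hY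
    (c := g • c) (c' := g • c') (fun h => hc (by rw [← hgp, ← h, inv_smul_smul]))
    (fun h => hc' (by rw [← hgp, ← h, inv_smul_smul])) (hfix c hfc) (hfix c' hfc')
  refine ⟨g⁻¹ * q * g, ?_, ?_, ?_⟩
  · rw [Subgroup.mem_centralizer_iff] at hqX ⊢
    intro x hx
    have := hqX _ ⟨x, hx, rfl⟩
    calc x * (g⁻¹ * q * g) = g⁻¹ * ((g * x * g⁻¹) * q) * g := by group
      _ = g⁻¹ * q * g * x := by rw [this]; group
  · rw [mul_smul, mul_smul, hg, Q_fix hS hq, hgp]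
  · rw [mul_smul, mul_smul, hqc, inv_smul_smul]

theorem centralizer_two_transitive {X : Set G}
    (h3 : ∃ b c d : Ω, b ≠ c ∧ b ≠ d ∧ c ≠ d ∧ ∀ x ∈ X, x • b = b ∧ x • c = c ∧ x • d = d)
    {b₁ b₂ c₁ c₂ : Ω} (hb₁ : ∀ x ∈ X, x • b₁ = b₁) (hb₂ : ∀ x ∈ X, x • b₂ = b₂)
    (hc₁ : ∀ x ∈ X, x • c₁ = c₁) (hc₂ : ∀ x ∈ X, x • c₂ = c₂) (hb : b₁ ≠ b₂) (hc : c₁ ≠ c₂) :
    ∃ g ∈ Subgroup.centralizer X, g • b₁ = c₁ ∧ g • b₂ = c₂ := by
  obtain ⟨b, c, d, hbc, hbd, hcd, hfix⟩ := h3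
  obtain ⟨p, hp1, hp2, hpf⟩ : ∃ p : Ω, b₁ ≠ p ∧ c₁ ≠ p ∧ ∀ x ∈ X, x • p = p := by
    by_cases h1 : b₁ ≠ b ∧ c₁ ≠ b
    · exact ⟨b, h1.1, h1.2, fun x hx => (hfix x hx).1⟩
    by_cases h2 : b₁ ≠ c ∧ c₁ ≠ c
    · exact ⟨c, h2.1, h2.2, fun x hx => (hfix x hx).2.1⟩
    refine ⟨d, ?_, ?_, fun x hx => (hfix x hx).2.2⟩
    · intro e
      subst e
      rcases not_and_or.mp h1 with h | h
      · exact hbd (not_not.mp h).symm
      rcases not_and_or.mp h2 with h' | h'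
      · exact hcd (not_not.mp h').symm
      exact hbc ((not_not.mp h).symm.trans (not_not.mp h'))
    · intro e
      subst e
      rcases not_and_or.mp h1 with h | h
      · rcases not_and_or.mp h2 with h' | h'
        · exact hbc ((not_not.mp h).symm.trans (not_not.mp h'))
        · exact hcd (not_not.mp h').symm
      · exact hbd (not_not.mp h).symm
  obtain ⟨h₁, hh₁, -, hh₁b⟩ := centralizer_move_fixing hS hpf hp1 hp2 hb₁ hc₁
  have hfix2 : ∀ x ∈ X, x • h₁ • b₂ = h₁ • b₂ := by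
    intro x hx
    rw [smul_smul, Subgroup.mem_centralizer_iff.mp hh₁ x hx, mul_smul, hb₂ x hx]
  obtain ⟨h₂, hh₂, hh₂p, hh₂b⟩ := centralizer_move_fixing hS hc₁
    (c := h₁ • b₂) (c' := c₂) (fun e => hb (MulAction.injective h₁ (hh₁b.trans e.symm)))
    hc.symm hfix2 hc₂
  refine ⟨h₂ * h₁, mul_mem hh₂ hh₁, ?_, ?_⟩
  · rw [mul_smul, hh₁b, hh₂p]
  · rw [mul_smul, hh₂b]

theorem fix_of_subset_D {X : Set G} (hX : X ⊆ (twoStab a t : Set G)) :
    (∀ x ∈ X, x • a = a) ∧ ∀ x ∈ X, x • t • a = t • a :=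
  ⟨fun _ hx => (mem_twoStab.mp (hX hx)).1, fun _ hx => (mem_twoStab.mp (hX hx)).2⟩

theorem exists_swap {X : Set G} (hX : X ⊆ (twoStab a t : Set G))
    (h3 : ∃ b c d : Ω, b ≠ c ∧ b ≠ d ∧ c ≠ d ∧ ∀ x ∈ X, x • b = b ∧ x • c = c ∧ x • d = d) :
    ∃ i ∈ Subgroup.centralizer X, i * i = 1 ∧ i ≠ 1 ∧ i • a = t • a := by
  obtain ⟨ha, hb⟩ := fix_of_subset_D hS hX
  have hne : a ≠ t • a := (t_smul_ne hS).symm
  obtain ⟨g, hg, hga, hgb⟩ := centralizer_two_transitive hS h3 ha hb hb ha hne hne.symm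
  obtain ⟨k, m, hm, hk⟩ := Nat.exists_eq_two_pow_mul_odd (n := orderOf g) (orderOf_pos g).ne'
  have hsq : (g * g) • a = a ∧ (g * g) • t • a = t • a := by
    constructor
    · rw [mul_smul, hga, hgb]
    · rw [mul_smul, hgb, hga]
  obtain ⟨j, rfl⟩ := hm
  have hgg : g * g ∈ twoStab a t := mem_twoStab.mpr hsq
  have hia : g ^ (2 * j + 1) • a = t • a := by
    have h1 : (g * g) ^ j ∈ twoStab a t := (twoStab a t).pow_mem hgg j
    rw [pow_succ', pow_mul, pow_two, mul_smul, (mem_twoStab.mp h1).1, hga]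
  refine ⟨g ^ (2 * j + 1), Subgroup.pow_mem _ hg _, ?_, fun h => hne ?_, hia⟩
  · have h2 : g ^ (2 * j + 1) * g ^ (2 * j + 1) ∈ twoStab a t := by
      rw [← (Commute.refl g).mul_pow]
      exact (twoStab a t).pow_mem hgg _
    set e := g ^ (2 * j + 1) * g ^ (2 * j + 1) with he
    have h3 : e ^ (2 ^ k) = 1 := by
      rw [he, ← (Commute.refl g).mul_pow, ← pow_two, ← pow_mul, ← pow_mul]
      have : 2 * ((2 * j + 1) * 2 ^ k) = orderOf g * 2 := by rw [hk]; ring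
      rw [this, pow_mul, pow_orderOf_eq_one, one_pow]
    have h4 : orderOf e = 1 := by
      have hd := orderOf_dvd_of_pow_eq_one h3
      have hd2 : orderOf e ∣ Nat.card ↥(twoStab a t) :=
        Subgroup.orderOf_dvd_natCard (twoStab a t) h2
      exact Nat.eq_one_of_dvd_coprimes
        ((Nat.coprime_pow_left_iff (n := k + 1) (by omega) 2 _).mpr
          (Nat.coprime_two_left.mpr hS.odd_card))
        (hd.trans (pow_dvd_pow 2 (by omega))) hd2
    exact orderOf_eq_one_iff.mp h4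
  · rw [h, one_smul] at hia
    exact hia

theorem exists_conj_into_centralizer {X : Set G} (hX : X ⊆ (twoStab a t : Set G))
    (h3 : ∃ b c d : Ω, b ≠ c ∧ b ≠ d ∧ c ≠ d ∧ ∀ x ∈ X, x • b = b ∧ x • c = c ∧ x • d = d) :
    ∃ k ∈ twoStab a t, ∀ x ∈ X, (k * x * k⁻¹) * t = t * (k * x * k⁻¹) := by
  obtain ⟨i, hi, hi2, -, hia⟩ := exists_swap hS hX h3
  have hk := swap_mem_inverted hS hi2 hia
  rw [inverted_iff hS] at hk
  set k₀ := sqrtIn (twoStab a t) (t * i) with hk₀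
  have hk0D : k₀ ∈ twoStab a t := sqrtIn_mem hk.1
  have hsq : k₀ * k₀ = t * i := sqrtIn_mul_self hS.odd_card hk.1
  have hk0t : t * k₀ * t = k₀⁻¹ := by
    have h := sqrtIn_conj (twoStab a t) (x := t * i) (g := t)
    rw [t_inv hS, hk.2, sqrtIn_inv] at h
    exact h
  have hit : k₀⁻¹ * t * k₀ = i := by
    calc k₀⁻¹ * t * k₀ = t * k₀ * (t * t) * k₀ := by rw [← hk0t]; group
      _ = t * (k₀ * k₀) := by rw [hS.mul_self]; group
      _ = i := by rw [hsq, t_cancel hS]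
  refine ⟨k₀, hk0D, fun x hx => ?_⟩
  have hxi := Subgroup.mem_centralizer_iff.mp hi x hx
  calc (k₀ * x * k₀⁻¹) * t = k₀ * (x * (k₀⁻¹ * t * k₀)) * k₀⁻¹ := by group
    _ = k₀ * ((k₀⁻¹ * t * k₀) * x) * k₀⁻¹ := by rw [hit, hxi]
    _ = t * (k₀ * x * k₀⁻¹) := by group

theorem even_card_centralizer_Q {X : Set G} (hX : X ⊆ (twoStab a t : Set G))
    (h3 : ∃ b c d : Ω, b ≠ c ∧ b ≠ d ∧ c ≠ d ∧ ∀ x ∈ X, x • b = b ∧ x • c = c ∧ x • d = d) :
    Even (Nat.card ↥(Subgroup.centralizer X ⊓ Q)) := by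
  obtain ⟨i, hi, hi2, hi1, -⟩ := exists_swap hS hX h3
  obtain ⟨p, hp⟩ := exists_fixed hS hi2
  obtain ⟨ha, hb⟩ := fix_of_subset_D hS hX
  have hpf : ∀ x ∈ X, x • p = p := by
    intro x hx
    refine fixed_unique hS hi2 hi1 ?_ hp
    rw [smul_smul, ← Subgroup.mem_centralizer_iff.mp hi x hx, mul_smul, hp]
  obtain ⟨h, hh, hhp⟩ : ∃ h ∈ Subgroup.centralizer X, h • p = a := by
    rcases eq_or_ne p a with e | e
    · exact ⟨1, one_mem _, by rw [one_smul, e]⟩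
    · obtain ⟨h, hh, h1, -⟩ :=
        centralizer_two_transitive hS h3 hpf ha ha hb e (t_smul_ne hS).symm
      exact ⟨h, hh, h1⟩
  have hmem : h * i * h⁻¹ ∈ Subgroup.centralizer X ⊓ Q := by
    refine ⟨Subgroup.mul_mem _ (Subgroup.mul_mem _ hh hi) (Subgroup.inv_mem _ hh), involution_mem_Q hS ?_ ?_⟩
    · rw [mem_stabilizer_iff, mul_smul, mul_smul, ← hhp, inv_smul_smul, hp]
    · calc h * i * h⁻¹ * (h * i * h⁻¹) = h * (i * i) * h⁻¹ := by group
        _ = 1 := by rw [hi2]; group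
  by_contra hodd
  rw [Nat.not_even_iff_odd] at hodd
  refine hi1 (conj_eq_one_iff.mp (eq_one_of_mul_self_of_odd hodd hmem ?_))
  calc h * i * h⁻¹ * (h * i * h⁻¹) = h * (i * i) * h⁻¹ := by group
    _ = 1 := by rw [hi2]; group

theorem centralizer_inf_stabilizer {X : Set G} (hX : X ⊆ (twoStab a t : Set G)) :
    (Subgroup.centralizer X ⊓ Q) ⊔ (Subgroup.centralizer X ⊓ twoStab a t) =
      Subgroup.centralizer X ⊓ stabilizer G a := by
  refine le_antisymm (sup_le (inf_le_inf_left _ hS.le) (inf_le_inf_left _ (D_le hS))) ?_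
  rintro g ⟨hgX, hga⟩
  obtain ⟨ha, hb⟩ := fix_of_subset_D hS hX
  have hgb : g • t • a ≠ a := fun e => by
    have : g • t • a = g • a := e.trans (show g • a = a from hga).symm
    exact t_smul_ne hS (MulAction.injective g this)
  obtain ⟨q, hq, hqX, hqb⟩ := centralizer_Q_move hS (X := X)
    (fun x hx => (D_le hS) (hX hx)) (t_smul_ne hS) hgb hb
    (fun x hx => by rw [smul_smul, Subgroup.mem_centralizer_iff.mp hgX x hx, mul_smul, hb x hx])
  rw [show g = q * (q⁻¹ * g) by group]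
  refine mul_mem (Subgroup.mem_sup_left ⟨hqX, hq⟩) (Subgroup.mem_sup_right ⟨?_, ?_⟩)
  · exact Subgroup.mul_mem _ (Subgroup.inv_mem _ hqX) hgX
  · refine mem_twoStab.mpr ⟨?_, ?_⟩
    · rw [mul_smul, show g • a = a from hga, Q_inv_fix hS hq]
    · rw [mul_smul, ← hqb, inv_smul_smul]

/-- A non-identity inverted element of `D` centralises no non-identity element of `Q`. -/
theorem inverted_fixedPointFree {x : G} (hx : x ∈ Cfsg.invertedBy (twoStab a t) t) (hx1 : x ≠ 1) :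
    Q ⊓ Subgroup.centralizer {x} = ⊥ := by
  rw [eq_bot_iff]
  rintro q ⟨hq, hqx⟩
  rw [Subgroup.mem_bot]
  by_contra hq1
  have hX : ({x} : Set G) ⊆ (twoStab a t : Set G) := by simpa using hx.1
  obtain ⟨ha, hb⟩ := fix_of_subset_D hS hX
  have hqb : q • t • a ≠ t • a := fun e => hq1 (eq_one_of_fix hS hq e)
  have hqa : q • t • a ≠ a := fun e =>
    t_smul_ne hS (MulAction.injective q (e.trans (Q_fix hS hq).symm))
  have h3 : ∃ b c d : Ω, b ≠ c ∧ b ≠ d ∧ c ≠ d ∧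
      ∀ y ∈ ({x} : Set G), y • b = b ∧ y • c = c ∧ y • d = d :=
    ⟨a, t • a, q • t • a, (t_smul_ne hS).symm, hqa.symm, hqb.symm, fun y hy => ⟨ha y hy, hb y hy, by
      rw [smul_smul, Subgroup.mem_centralizer_iff.mp hqx y hy, mul_smul, hb y hy]⟩⟩
  obtain ⟨k, hk, hcomm⟩ := exists_conj_into_centralizer hS hX h3
  have h1mem : (1 : G) ∈ Cfsg.invertedBy (twoStab a t) t :=
    (inverted_iff hS).mpr ⟨one_mem _, by rw [mul_one, hS.mul_self, inv_one]⟩
  exact hx1 (inverted_transversal hS.odd_card hS.mul_self (fun y hy => conj_t_mem_D hS hy) hx h1mem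
    (mul_mem (mul_mem hk hx.1) (inv_mem hk)) (hcomm x rfl) (inv_mem hk) (by group))

/-- Subsets of `C_D(t)` conjugate in `G` are conjugate in `C_D(t)`. -/
theorem conj_in_centralizer {X : Set G}
    (hX : X ⊆ ((twoStab a t ⊓ Subgroup.centralizer {t} : Subgroup G) : Set G)) {g : G}
    (hY : (fun x => g * x * g⁻¹) '' X ⊆
      ((twoStab a t ⊓ Subgroup.centralizer {t} : Subgroup G) : Set G)) :
    ∃ v ∈ twoStab a t ⊓ Subgroup.centralizer {t}, ∀ x ∈ X, v * x * v⁻¹ = g * x * g⁻¹ := by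
  obtain ⟨c, hc⟩ := exists_fixed hS hS.mul_self
  have hca : c ≠ a := fun h => t_smul_ne hS (h ▸ hc)
  have hcb : c ≠ t • a := fun h => by
    rw [h, t_smul_smul hS] at hc
    exact t_smul_ne hS hc.symm
  have hV : ∀ {v : G}, v ∈ twoStab a t ⊓ Subgroup.centralizer {t} → v • c = c := by
    intro v hv
    have := Subgroup.mem_centralizer_iff.mp hv.2 t rfl
    refine fixed_unique hS hS.mul_self hS.ne_one ?_ hc
    rw [smul_smul, this, mul_smul, hc]
  have hXD : X ⊆ (twoStab a t : Set G) := fun x hx => (hX hx).1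
  obtain ⟨ha, hb⟩ := fix_of_subset_D hS hXD
  have h3 : ∃ b c d : Ω, b ≠ c ∧ b ≠ d ∧ c ≠ d ∧ ∀ y ∈ X, y • b = b ∧ y • c = c ∧ y • d = d :=
    ⟨a, t • a, c, (t_smul_ne hS).symm, hca.symm, hcb.symm, fun y hy => ⟨ha y hy, hb y hy, hV (hX hy)⟩⟩
  have hg : ∀ e : Ω, (∀ x ∈ X, (g * x * g⁻¹) • e = e) → ∀ x ∈ X, x • g⁻¹ • e = g⁻¹ • e := by
    intro e he x hx
    have := he x hx
    rw [mul_smul, mul_smul] at this
    exact eq_inv_smul_iff.mpr this
  have hga := hg a (fun x hx => (mem_twoStab.mp (hY ⟨x, hx, rfl⟩).1).1)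
  have hgb := hg (t • a) (fun x hx => (mem_twoStab.mp (hY ⟨x, hx, rfl⟩).1).2)
  obtain ⟨h, hh, hha, hhb⟩ := centralizer_two_transitive hS h3 ha hb hga hgb (t_smul_ne hS).symm
    (fun e => (t_smul_ne hS).symm (MulAction.injective g⁻¹ e))
  have hd : g * h ∈ twoStab a t := mem_twoStab.mpr
    ⟨by rw [mul_smul, hha, smul_inv_smul], by rw [mul_smul, hhb, smul_inv_smul]⟩
  obtain ⟨v, k, hvD, hvt, hk, hvk⟩ := exists_fixed_mul_inverted hS.odd_card hS.mul_self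
    (fun x hx => conj_t_mem_D hS hx) hd
  have hv : v ∈ twoStab a t ⊓ Subgroup.centralizer {t} :=
    ⟨hvD, Subgroup.mem_centralizer_singleton_iff.mpr hvt⟩
  refine ⟨v, hv, fun x hx => ?_⟩
  have hgx : g * x * g⁻¹ = v * (k * x * k⁻¹) * v⁻¹ := by
    have := Subgroup.mem_centralizer_iff.mp hh x hx
    calc g * x * g⁻¹ = g * (x * h) * h⁻¹ * g⁻¹ := by group
      _ = (g * h) * x * (g * h)⁻¹ := by rw [this]; group
      _ = v * (k * x * k⁻¹) * v⁻¹ := by rw [hvk]; group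
  have hkx : k * x * k⁻¹ ∈ twoStab a t ⊓ Subgroup.centralizer {t} := by
    have := mul_mem (mul_mem (inv_mem hv) (hY ⟨x, hx, rfl⟩)) hv
    have e : v⁻¹ * (g * x * g⁻¹) * v = k * x * k⁻¹ := by rw [hgx]; group
    rwa [show v⁻¹ * (fun x => g * x * g⁻¹) x * v = k * x * k⁻¹ from e] at this
  rw [inverted_iff hS] at hk
  have htx : t * x * t = x := by
    rw [Subgroup.mem_centralizer_iff.mp (hX hx).2 t rfl, mul_assoc, hS.mul_self, mul_one]
  have htk : t * (k * x * k⁻¹) * t = k * x * k⁻¹ := by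
    rw [Subgroup.mem_centralizer_iff.mp hkx.2 t rfl, mul_assoc, hS.mul_self, mul_one]
  rw [t_conj_mul hS, t_conj_mul hS, t_conj_inv hS, hk.2, htx, inv_inv] at htk
  have hx2 : x * (k * k) = (k * k) * x := by
    calc x * (k * k) = k * (k⁻¹ * x * k) * k := by group
      _ = (k * k) * x := by rw [htk]; group
  rw [hgx, ← commute_of_commute_mul_self hS.odd_card hk.1 hx2]
  group

end setup

end Cfsg.Agent.Lib.RankOne
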