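import Cfsg.Agent.Lib.RankOne.Basic

/-!
The structure equation and the elements of the two-point stabiliser inverted by `t`.
-/

set_option autoImplicit false
set_option linter.unusedSectionVars false
set_option linter.style.haveILetI false

namespace Cfsg.Agent.Lib.RankOne

open MulAction

variable {G Ω : Type*} [Group G] [MulAction G Ω] [Finite G] {a : Ω} {t : G} {Q : Subgroup G}

section setup

variable (hS : Cfsg.IsRankOneSetup G Ω a t Q)
include hS

theorem inverted_iff {k : G} :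
    k ∈ Cfsg.invertedBy (twoStab a t) t ↔ k ∈ twoStab a t ∧ t * k * t = k⁻¹ :=
  mem_invertedBy hS.mul_self

theorem mul_inverted_self {k : G} (hk : k ∈ Cfsg.invertedBy (twoStab a t) t) :
    t * k * (t * k) = 1 := by
  rw [inverted_iff hS] at hk
  rw [← mul_assoc, hk.2, inv_mul_cancel]

/-- An involution interchanging `a` and `t • a` is `t k` with `k` inverted by `t`. -/
theorem swap_mem_inverted {i : G} (hi : i * i = 1) (hia : i • a = t • a) :
    t * i ∈ Cfsg.invertedBy (twoStab a t) t := by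
  have hib : i • t • a = a := by rw [← hia, smul_smul, hi, one_smul]
  rw [inverted_iff hS]
  refine ⟨mem_twoStab.mpr ⟨?_, ?_⟩, ?_⟩
  · rw [mul_smul, hia, t_smul_smul hS]
  · rw [mul_smul, hib]
  · rw [mul_inv_rev, t_inv hS, inv_eq_of_mul_eq_one_right hi, ← mul_assoc, hS.mul_self, one_mul]

theorem t_conj_conj {x : G} : t * (t * x * t) * t = x := by
  calc t * (t * x * t) * t = (t * t) * x * (t * t) := by group
    _ = x := by rw [hS.mul_self]; group

theorem t_conj_mul {x y : G} : t * (x * y) * t = (t * x * t) * (t * y * t) := by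
  calc t * (x * y) * t = t * x * (t * t) * y * t := by rw [hS.mul_self]; group
    _ = (t * x * t) * (t * y * t) := by group

theorem t_conj_inv {x : G} : t * x⁻¹ * t = (t * x * t)⁻¹ := by
  rw [mul_inv_rev, mul_inv_rev, t_inv hS, mul_assoc]

/-- Existence of the structure equation. -/
theorem exists_structure :
    ∃ s r : G, s ∈ Cfsg.involutionsIn (stabilizer G a : Set G) ∧ r ∈ Q ∧
      t * s * t = r⁻¹ * t * r := by
  obtain ⟨c, hc⟩ := exists_fixed hS hS.mul_self
  have hca : c ≠ a := fun h => t_smul_ne hS (h ▸ hc)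
  obtain ⟨r, hr, hrc⟩ := exists_Q_move hS hca
  refine ⟨t * (r⁻¹ * t * r) * t, r, ⟨?_, ?_, ?_⟩, hr, t_conj_conj hS⟩
  · show (t * (r⁻¹ * t * r) * t) • a = a
    rw [mul_smul, mul_smul, mul_smul, mul_smul, hrc, hc, ← hrc, inv_smul_smul, t_smul_smul hS]
  · intro h
    have h1 : t * (t * (r⁻¹ * t * r) * t) * t = 1 := by rw [h, mul_one, hS.mul_self]
    rw [t_conj_conj hS] at h1
    exact hS.ne_one (calc t = r * (r⁻¹ * t * r) * r⁻¹ := by group
      _ = 1 := by rw [h1]; group)
  · rw [← t_conj_mul hS]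
    have : r⁻¹ * t * r * (r⁻¹ * t * r) = r⁻¹ * (t * t) * r := by group
    rw [this, hS.mul_self, mul_one, inv_mul_cancel, mul_one, hS.mul_self]

/-- Uniqueness of the structure equation. -/
theorem structure_unique {s r s' r' : G} (hs : s ∈ Cfsg.involutionsIn (stabilizer G a : Set G))
    (hr : r ∈ Q) (h : t * s * t = r⁻¹ * t * r)
    (hs' : s' ∈ Cfsg.involutionsIn (stabilizer G a : Set G))
    (hr' : r' ∈ Q) (h' : t * s' * t = r'⁻¹ * t * r') : s = s' ∧ r = r' := by
  have key : ∀ {s r : G}, s • a = a → r ∈ Q → t * s * t = r⁻¹ * t * r →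
      t • r • t • a = r • t • a := by
    intro s r hsa _ h
    have h1 : (t * s * t) • t • a = t • a := by
      rw [mul_smul, mul_smul, t_smul_smul hS, hsa]
    rw [h, mul_smul, mul_smul, inv_smul_eq_iff] at h1
    exact h1
  have hc := fixed_unique hS hS.mul_self hS.ne_one (key hs.1 hr h) (key hs'.1 hr' h')
  have hrr : r = r' := Q_move_unique hS (t_smul_ne hS) hr hr' hc
  subst hrr
  refine ⟨?_, rfl⟩
  rw [← t_conj_conj hS (x := s), h, ← h', t_conj_conj hS]

theorem conj_involutionsIn {g s : G} (hg : g ∈ stabilizer G a)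
    (hs : s ∈ Cfsg.involutionsIn (stabilizer G a : Set G)) :
    g * s * g⁻¹ ∈ Cfsg.involutionsIn (stabilizer G a : Set G) := by
  refine ⟨(stabilizer G a).mul_mem ((stabilizer G a).mul_mem hg hs.1)
    ((stabilizer G a).inv_mem hg), fun h => hs.2.1 (conj_eq_one_iff.mp h), ?_⟩
  calc g * s * g⁻¹ * (g * s * g⁻¹) = g * (s * s) * g⁻¹ := by group
    _ = 1 := by rw [hs.2.2]; group

/-- In `D`, commuting with `t` is the same as commuting with the special involution `s`. -/
theorem commute_t_iff {s r : G} (hs : s ∈ Cfsg.involutionsIn (stabilizer G a : Set G))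
    (hr : r ∈ Q) (h : t * s * t = r⁻¹ * t * r) {c : G} (hc : c ∈ twoStab a t) :
    c * t = t * c ↔ c * s = s * c := by
  constructor
  · intro hct
    have hct' : c * t * c⁻¹ = t := by rw [hct]; group
    have h1 : t * (c * s * c⁻¹) * t = (c * r * c⁻¹)⁻¹ * t * (c * r * c⁻¹) := by
      calc t * (c * s * c⁻¹) * t = (c * t * c⁻¹) * (c * s * c⁻¹) * (c * t * c⁻¹) := by rw [hct']
        _ = c * (t * s * t) * c⁻¹ := by group
        _ = (c * r * c⁻¹)⁻¹ * (c * t * c⁻¹) * (c * r * c⁻¹) := by rw [h]; group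
        _ = _ := by rw [hct']
    have h2 := (structure_unique hS hs hr h (conj_involutionsIn hS (D_le hS hc) hs)
      (conj_Q hS (D_le hS hc) hr) h1).1
    calc c * s = c * s * c⁻¹ * c := by group
      _ = s * c := by rw [← h2]
  · intro hcs
    set c' := t * c * t with hc'
    have hc'D : c' ∈ twoStab a t := conj_t_mem_D hS hc
    have h1 : c' * (r⁻¹ * t * r) = (r⁻¹ * t * r) * c' := by
      rw [← h, hc', ← t_conj_mul hS, hcs, t_conj_mul hS]
    set e := r * c' * r⁻¹ with he
    have het : e * t = t * e := by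
      calc e * t = r * (c' * (r⁻¹ * t * r)) * r⁻¹ := by rw [he]; group
        _ = t * e := by rw [h1, he]; group
    have hea : e • a = a :=
      (stabilizer G a).mul_mem ((stabilizer G a).mul_mem (hS.le hr) (D_le hS hc'D))
        ((stabilizer G a).inv_mem (hS.le hr))
    have heD : e ∈ twoStab a t := mem_twoStab.mpr ⟨hea, by rw [smul_smul, het, mul_smul, hea]⟩
    have h2 : r * (c' * r⁻¹ * c'⁻¹) = 1 :=
      QD_eq_one hS (Q.mul_mem hr (conj_Q hS (D_le hS hc'D) (Q.inv_mem hr)))
        ((twoStab a t).mul_mem heD ((twoStab a t).inv_mem hc'D)) (by rw [he]; group)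
    have h3 : e = c' := by
      calc e = r * (c' * r⁻¹ * c'⁻¹) * c' := by rw [he]; group
        _ = c' := by rw [h2, one_mul]
    rw [h3] at het
    have h4 : c' = c := by
      have : c' = t * c' * t := by rw [← het, mul_assoc, hS.mul_self, mul_one]
      rw [this, hc', t_conj_conj hS]
    rwa [h4] at het

theorem inj_conj_special {s r : G} (hs : s ∈ Cfsg.involutionsIn (stabilizer G a : Set G))
    (hr : r ∈ Q) (h : t * s * t = r⁻¹ * t * r) {d k₁ k₂ : G} (hd : d ∈ twoStab a t)
    (hk₁ : k₁ ∈ Cfsg.invertedBy (twoStab a t) t) (hk₂ : k₂ ∈ Cfsg.invertedBy (twoStab a t) t)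
    (he : k₁⁻¹ * (d * s * d⁻¹) * k₁ = k₂⁻¹ * (d * s * d⁻¹) * k₂) : k₁ = k₂ := by
  have hD : d⁻¹ * (k₁ * k₂⁻¹) * d ∈ twoStab a t :=
    (twoStab a t).mul_mem ((twoStab a t).mul_mem ((twoStab a t).inv_mem hd)
      ((twoStab a t).mul_mem hk₁.1 ((twoStab a t).inv_mem hk₂.1))) hd
  have hcomm : (d⁻¹ * (k₁ * k₂⁻¹) * d) * s = s * (d⁻¹ * (k₁ * k₂⁻¹) * d) := by
    calc (d⁻¹ * (k₁ * k₂⁻¹) * d) * s
        = d⁻¹ * k₁ * (k₂⁻¹ * (d * s * d⁻¹) * k₂) * k₂⁻¹ * d := by group
      _ = s * (d⁻¹ * (k₁ * k₂⁻¹) * d) := by rw [← he]; group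
  exact inverted_transversal hS.odd_card hS.mul_self (fun x hx => conj_t_mem_D hS hx) hk₁ hk₂ hD
    ((commute_t_iff hS hs hr h hD).mpr hcomm) hd (by group)

theorem finite_involutions : Finite (Cfsg.involutionsIn (stabilizer G a : Set G)) :=
  Set.Finite.to_subtype (Set.toFinite _)

theorem card_inverted :
    Nat.card (Cfsg.invertedBy (twoStab a t) t) =
      Nat.card (Cfsg.involutionsIn (stabilizer G a : Set G)) := by
  obtain ⟨s, r, hs, hr, h⟩ := exists_structure hS
  refine le_antisymm ?_ ?_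
  · refine Nat.card_le_card_of_injective (fun k => ⟨(k : G)⁻¹ * s * k, ?_⟩) ?_
    · simpa using conj_involutionsIn hS ((stabilizer G a).inv_mem (D_le hS k.2.1)) hs
    · intro k₁ k₂ e
      exact Subtype.ext (inj_conj_special hS hs hr h (twoStab a t).one_mem k₁.2 k₂.2
        (by simpa using congrArg Subtype.val e))
  · have hmove : ∀ u : Cfsg.involutionsIn (stabilizer G a : Set G),
        (t * (u : G) * t) • a ≠ a := by
      intro u hu
      exact conj_t_not_mem hS (involution_mem_Q hS u.2.1 u.2.2.2) u.2.2.1 hu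
    choose q hq hqb using fun u : Cfsg.involutionsIn (stabilizer G a : Set G) =>
      exists_Q_move' hS (hmove u) (t_smul_ne hS)
    refine Nat.card_le_card_of_injective
      (fun u => ⟨t * (q u * (t * (u : G) * t) * (q u)⁻¹), swap_mem_inverted hS ?_ ?_⟩) ?_
    · have := u.2.2.2
      calc q u * (t * (u : G) * t) * (q u)⁻¹ * (q u * (t * (u : G) * t) * (q u)⁻¹)
          = q u * ((t * (u : G) * t) * (t * (u : G) * t)) * (q u)⁻¹ := by group
        _ = 1 := by rw [← t_conj_mul hS, this, mul_one, hS.mul_self]; group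
    · rw [mul_smul, mul_smul, Q_inv_fix hS (hq u), hqb u]
    · intro u v e
      have e1 : q u * (t * (u : G) * t) * (q u)⁻¹ = q v * (t * (v : G) * t) * (q v)⁻¹ :=
        mul_left_cancel (congrArg Subtype.val e)
      set w := t * ((q v)⁻¹ * q u) * t with hw
      have h1 : w * (u : G) * w⁻¹ = v := by
        calc w * (u : G) * w⁻¹
            = t * ((q v)⁻¹ * (q u * (t * (u : G) * t⁻¹) * (q u)⁻¹) * q v) * t⁻¹ := by
              rw [hw, mul_inv_rev, mul_inv_rev, t_inv hS]; group
          _ = v := by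
              rw [t_inv hS, e1]
              calc t * ((q v)⁻¹ * (q v * (t * (v : G) * t) * (q v)⁻¹) * q v) * t
                  = t * (t * (v : G) * t) * t := by group
                _ = v := t_conj_conj hS
      have h2 : (v : G) • w • a = w • a := by
        rw [← h1, smul_smul]
        have hua : (u : G) • a = a := u.2.1
        rw [show w * (u : G) * w⁻¹ * w = w * (u : G) by group, mul_smul, hua]
      have h3 : w • a = a := fixed_unique hS v.2.2.2 v.2.2.1 h2 v.2.1
      rw [hw, mul_smul, mul_smul, smul_eq_iff_eq_inv_smul, t_inv hS] at h3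
      have h4 : (q v)⁻¹ * q u = 1 := eq_one_of_fix hS (Q.mul_mem (Q.inv_mem (hq v)) (hq u)) h3
      have h5 : w = 1 := by rw [hw, h4, mul_one, hS.mul_self]
      rw [h5, one_mul, inv_one, mul_one] at h1
      exact Subtype.ext h1

theorem exists_conj_special {s r s' : G}
    (hs : s ∈ Cfsg.involutionsIn (stabilizer G a : Set G)) (hr : r ∈ Q)
    (h : t * s * t = r⁻¹ * t * r) {d : G} (hd : d ∈ twoStab a t)
    (hs' : s' ∈ Cfsg.involutionsIn (stabilizer G a : Set G)) :
    ∃ k ∈ Cfsg.invertedBy (twoStab a t) t, k⁻¹ * (d * s * d⁻¹) * k = s' := by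
  haveI : Finite (Cfsg.involutionsIn (stabilizer G a : Set G)) := finite_involutions hS
  let f : Cfsg.invertedBy (twoStab a t) t → Cfsg.involutionsIn (stabilizer G a : Set G) :=
    fun k => ⟨(k : G)⁻¹ * (d * s * d⁻¹) * k, by
      simpa using conj_involutionsIn hS ((stabilizer G a).inv_mem (D_le hS k.2.1))
        (conj_involutionsIn hS (D_le hS hd) hs)⟩
  have hf : Function.Injective f := fun k₁ k₂ e =>
    Subtype.ext (inj_conj_special hS hs hr h hd k₁.2 k₂.2 (congrArg Subtype.val e))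
  have hb := hf.bijective_of_nat_card_le (le_of_eq (card_inverted hS).symm)
  obtain ⟨k, hk⟩ := hb.2 ⟨s', hs'⟩
  exact ⟨k, k.2, congrArg Subtype.val hk⟩

theorem exists_conj_inverted {s s' : G}
    (hs : s ∈ Cfsg.involutionsIn (stabilizer G a : Set G))
    (hs' : s' ∈ Cfsg.involutionsIn (stabilizer G a : Set G)) :
    ∃ k ∈ Cfsg.invertedBy (twoStab a t) t, k⁻¹ * s * k = s' := by
  obtain ⟨s₀, r, hs₀, hr, h⟩ := exists_structure hS
  obtain ⟨l, hl, hls⟩ := exists_conj_special hS hs₀ hr h (twoStab a t).one_mem hs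
  obtain ⟨k, hk, hks⟩ := exists_conj_special hS hs₀ hr h
    ((twoStab a t).inv_mem hl.1) hs'
  refine ⟨k, hk, ?_⟩
  rw [← hls]
  rw [← hks]
  group

theorem inj_conj {s : G} (hs : s ∈ Cfsg.involutionsIn (stabilizer G a : Set G)) {k₁ k₂ : G}
    (hk₁ : k₁ ∈ Cfsg.invertedBy (twoStab a t) t) (hk₂ : k₂ ∈ Cfsg.invertedBy (twoStab a t) t)
    (he : k₁⁻¹ * s * k₁ = k₂⁻¹ * s * k₂) : k₁ = k₂ := by
  obtain ⟨s₀, r, hs₀, hr, h⟩ := exists_structure hS
  obtain ⟨l, hl, hls⟩ := exists_conj_special hS hs₀ hr h (twoStab a t).one_mem hs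
  refine inj_conj_special hS hs₀ hr h ((twoStab a t).inv_mem hl.1) hk₁ hk₂ ?_
  rw [← hls] at he
  simpa [mul_assoc] using he

end setup

end Cfsg.Agent.Lib.RankOne
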